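import Groth.Agent.Lib.DefHull3.Data
import Groth.Agent.Lib.CotT3.ExalT1
import Groth.Agent.Lib.ArtFun.Tangent
import Mathlib.RingTheory.Flat.EquationalCriterion

/-!
# First order deformations of affine schemes and `T¹`
-/

set_option autoImplicit false
set_option backward.isDefEq.respectTransparency false
set_option linter.style.haveILetI false

universe u

open CategoryTheory CategoryTheory.Limits AlgebraicGeometry TensorProduct

noncomputable section

namespace Groth.Agent.DefHull3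

open ArtFun DefAff3 _root_.CotT CotT3

variable {k : Type u} [Field k] {B₀ : Type u} [CommRing B₀] [Algebra k B₀]
variable {ι σ : Type u} (P : Algebra.Presentation k B₀ ι σ)

/-- A lift of a presentation to an extension induces a map on `I/I²`. -/
theorem exists_phi_of_lift (X : Exal.Ext k B₀ B₀) (h : P.toExtension.Ring →+* X.E)
    (hC : ∀ a, h (MvPolynomial.C a) = algebraMap k X.E a)
    (hp : ∀ r, X.proj (h r) = algebraMap P.toExtension.Ring B₀ r) : ∃ φ, IsClassifier P X h φ := by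
  have hI : ∀ x : P.toExtension.ker, X.proj (h x) = 0 := fun x => (hp x).trans x.2
  let g : P.toExtension.ker → B₀ := fun x => X.kerLift _ (hI x)
  have hg : ∀ x, X.incl (g x) = h x := fun x => X.incl_kerLift _ _
  let gl : P.toExtension.ker →ₗ[P.toExtension.Ring] B₀ :=
    { toFun := g
      map_add' := fun x y => X.isExtension.incl_injective (by
        rw [map_add, hg, hg, hg, Submodule.coe_add, map_add])
      map_smul' := fun r x => X.isExtension.incl_injective (by
        rw [RingHom.id_apply, ← algebraMap_smul B₀ r (g x)]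
        rw [← hp, incl_smul, hg, hg, Submodule.coe_smul, smul_eq_mul, map_mul]) }
  have hker : P.toExtension.ker • (⊤ : Submodule P.toExtension.Ring P.toExtension.ker) ≤ LinearMap.ker gl := by
    refine Submodule.smul_le.2 fun r hr x _ => ?_
    rw [LinearMap.mem_ker, map_smul]
    rw [← algebraMap_smul B₀ r (gl x)]
    rw [RingHom.mem_ker.1 hr, zero_smul]
  rw [← Algebra.Extension.Cotangent.ker_mk] at hker
  let φ₀ : P.toExtension.Cotangent → B₀ := fun c => gl (Function.surjInv Algebra.Extension.Cotangent.mk_surjective c)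
  have hwd : ∀ x, φ₀ (Algebra.Extension.Cotangent.mk x) = gl x := fun x => by
    rw [← sub_eq_zero, ← map_sub, ← LinearMap.mem_ker]
    exact hker (by rw [LinearMap.mem_ker, map_sub, Function.surjInv_eq Algebra.Extension.Cotangent.mk_surjective, sub_self])
  refine ⟨{ toFun := φ₀, map_add' := fun c d => ?_, map_smul' := fun b c => ?_ }, hC, hp, fun x => ?_⟩
  · obtain ⟨x, rfl⟩ := Algebra.Extension.Cotangent.mk_surjective c
    obtain ⟨y, rfl⟩ := Algebra.Extension.Cotangent.mk_surjective d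
    rw [← map_add, hwd, hwd, hwd, map_add]
  · obtain ⟨x, rfl⟩ := Algebra.Extension.Cotangent.mk_surjective c
    obtain ⟨r, rfl⟩ := algebraMap_surjective P b
    rw [algebraMap_smul, ← map_smul, hwd, hwd, map_smul, RingHom.id_apply, algebraMap_smul]
  · exact ((congrArg X.incl (hwd x)).trans (hg x)).symm

/-- `ε` in the ring of a first order deformation. -/
def eps (𝒳 : DefSch (Spec (CommRingCat.of B₀)) (str₀ k B₀) (Art.dual k k)) : Γr 𝒳 :=
  (φr 𝒳).hom (TrivSqZeroExt.inr 1 : DualNumber k)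

section Dual

variable (𝒳 : DefSch (Spec (CommRingCat.of B₀)) (str₀ k B₀) (Art.dual k k))

theorem ρr_eps : (ρr 𝒳).hom (eps 𝒳) = 0 :=
  (ρr_φr 𝒳 _).trans (map_zero (algebraMap k B₀))

theorem eps_mul_self : eps 𝒳 * eps 𝒳 = 0 := by
  rw [eps, ← map_mul]
  exact (congrArg _ (TrivSqZeroExt.inr_mul_inr k (1 : k) 1)).trans (map_zero _)

theorem ρr_eq_zero_iff (y : Γr 𝒳) : (ρr 𝒳).hom y = 0 ↔ ∃ z, y = eps 𝒳 * z := by
  refine ⟨fun h => ?_, ?_⟩
  · have h' : y ∈ RingHom.ker (ρr 𝒳).hom := h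
    rw [ker_ρr] at h'
    have hle : (IsLocalRing.maximalIdeal (Art.dual k k)).map (φr 𝒳).hom ≤ Ideal.span {eps 𝒳} := by
      refine Ideal.map_le_iff_le_comap.2 fun (a : DualNumber k) ha => ?_
      have ha0 : a.fst = 0 := ((Art.dual k k).mem_maximalIdeal_iff a).1 ha
      have e : a = (TrivSqZeroExt.inl a.snd : DualNumber k) * TrivSqZeroExt.inr 1 := by
        rw [TrivSqZeroExt.inl_mul_inr, smul_eq_mul, mul_one]
        exact TrivSqZeroExt.ext ha0 rfl
      rw [Ideal.mem_comap, e]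
      exact (congrArg (· ∈ Ideal.span {eps 𝒳}) (map_mul (φr 𝒳).hom _ _)).mpr
        (Ideal.mul_mem_left _ _ (Ideal.mem_span_singleton_self _))
    obtain ⟨z, hz⟩ := Ideal.mem_span_singleton'.1 (hle h')
    exact ⟨z, by rw [← hz, mul_comm]⟩
  · rintro ⟨z, rfl⟩
    rw [map_mul, ρr_eps, zero_mul]

theorem ρr_of_eps_mul {y : Γr 𝒳} (h : eps 𝒳 * y = 0) : (ρr 𝒳).hom y = 0 := by
  letI : Algebra (Art.dual k k) (Γr 𝒳) := (φr 𝒳).hom.toAlgebra
  haveI : Module.Flat (Art.dual k k) (Γr 𝒳) := flat_φr 𝒳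
  let e : Art.dual k k := (TrivSqZeroExt.inr 1 : DualNumber k)
  obtain ⟨m, a, z, hyz, ha⟩ := Module.Flat.isTrivialRelation_of_sum_smul_eq_zero
    (f := fun _ : Fin 1 => e) (x := fun _ => y) (by
      rw [Fin.sum_univ_one, Algebra.smul_def]
      exact h)
  rw [show y = ∑ j, a 0 j • z j from hyz 0, map_sum]
  refine Finset.sum_eq_zero fun j _ => ?_
  have h1 := ha j
  rw [Fin.sum_univ_one] at h1
  have h2 : (Art.dual k k).res (a 0 j) = 0 := by
    have := congrArg TrivSqZeroExt.snd h1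
    simpa [e, Art.dual] using this
  rw [Algebra.smul_def, map_mul]
  show (ρr 𝒳).hom ((φr 𝒳).hom (a 0 j)) * _ = 0
  rw [ρr_φr, h2, map_zero, zero_mul]

/-- The extension of a first order deformation. -/
def tanExt : Exal.Ext k B₀ B₀ :=
  letI : Algebra k (Γr 𝒳) := ((φr 𝒳).hom.comp (TrivSqZeroExt.inlHom k k)).toAlgebra
  have hzero : ∀ y : Γr 𝒳, (ρr 𝒳).hom y = 0 → eps 𝒳 * y = 0 := fun y hy => by
    obtain ⟨z, rfl⟩ := (ρr_eq_zero_iff 𝒳 y).1 hy
    rw [← mul_assoc, eps_mul_self, zero_mul]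
  have hsec : ∀ y : Γr 𝒳, eps 𝒳 * Function.surjInv (ρr_surjective 𝒳) ((ρr 𝒳).hom y) = eps 𝒳 * y := fun y => by
    rw [← sub_eq_zero, ← mul_sub]
    exact hzero _ (by rw [map_sub, Function.surjInv_eq (ρr_surjective 𝒳), sub_self])
  { E := Γr 𝒳
    proj := { (ρr 𝒳).hom with commutes' := fun a => (ρr_φr 𝒳 _).trans rfl }
    incl := AddMonoidHom.mk' (fun b => eps 𝒳 * Function.surjInv (ρr_surjective 𝒳) b) fun a b => by
      rw [← mul_add, ← hsec (_ + _), map_add, Function.surjInv_eq (ρr_surjective 𝒳),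
        Function.surjInv_eq (ρr_surjective 𝒳)]
    isExtension :=
      { proj_surjective := ρr_surjective 𝒳
        incl_injective := (injective_iff_map_eq_zero _).2 fun b hb =>
          (Function.surjInv_eq (ρr_surjective 𝒳) b).symm.trans (ρr_of_eps_mul 𝒳 hb)
        exact := fun y => ⟨fun hy => by
            obtain ⟨z, rfl⟩ := (ρr_eq_zero_iff 𝒳 y).1 hy
            exact ⟨(ρr 𝒳).hom z, hsec z⟩, fun ⟨b, hb⟩ => by
            rw [← hb]
            exact (ρr_eq_zero_iff 𝒳 _).2 ⟨_, rfl⟩⟩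
        mul_incl := fun y b => by
          show y * (eps 𝒳 * Function.surjInv (ρr_surjective 𝒳) b) =
            eps 𝒳 * Function.surjInv (ρr_surjective 𝒳) ((ρr 𝒳).hom y * b)
          rw [mul_left_comm, ← hsec (y * _), map_mul, Function.surjInv_eq (ρr_surjective 𝒳)] } }

theorem tanExt_incl (y : Γr 𝒳) : (tanExt 𝒳).incl ((ρr 𝒳).hom y) = eps 𝒳 * y := by
  show eps 𝒳 * Function.surjInv (ρr_surjective 𝒳) ((ρr 𝒳).hom y) = eps 𝒳 * y
  rw [← sub_eq_zero, ← mul_sub]
  obtain ⟨z, hz⟩ := (ρr_eq_zero_iff 𝒳 (Function.surjInv (ρr_surjective 𝒳) ((ρr 𝒳).hom y) - y)).1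
    (by rw [map_sub, Function.surjInv_eq (ρr_surjective 𝒳), sub_self])
  rw [hz, ← mul_assoc, eps_mul_self, zero_mul]

/-- The class in `T¹` of a first order deformation. -/
def tcl : T1 P B₀ := homToT1 P B₀ (exists_isClassifier P (tanExt 𝒳)).choose_spec.choose

theorem tcl_eq {h : P.toExtension.Ring →+* (tanExt 𝒳).E} {φ : P.toExtension.Cotangent →ₗ[B₀] B₀}
    (hh : IsClassifier P (tanExt 𝒳) h φ) : tcl P 𝒳 = homToT1 P B₀ φ :=
  homToT1_eq_of_isClassifier P (exists_isClassifier P (tanExt 𝒳)).choose_spec.choose_spec hh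

variable {𝒳}

/-- Maps of ring data preserve the class. -/
theorem tcl_eq_of_hom {𝒴 : DefSch (Spec (CommRingCat.of B₀)) (str₀ k B₀) (Art.dual k k)} (G : Γr 𝒳 →+* Γr 𝒴)
    (hφ : ∀ c, G ((φr 𝒳).hom c) = (φr 𝒴).hom c) (hρ : ∀ y, (ρr 𝒴).hom (G y) = (ρr 𝒳).hom y) :
    tcl P 𝒳 = tcl P 𝒴 := by
  obtain ⟨h, φ, hh⟩ := exists_isClassifier P (tanExt 𝒳)
  have hh' : IsClassifier P (tanExt 𝒴) ((G : (tanExt 𝒳).E →+* (tanExt 𝒴).E).comp h) φ := by
    refine ⟨fun a => (congrArg G (hh.1 a)).trans (hφ _), fun r => (hρ _).trans (hh.2.1 r), fun x => ?_⟩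
    obtain ⟨y, hy⟩ := ρr_surjective 𝒳 (φ (Algebra.Extension.Cotangent.mk x))
    refine (congrArg G (hh.2.2 x)).trans ?_
    rw [← hy, tanExt_incl]
    refine (map_mul G _ _).trans ?_
    rw [show G (eps 𝒳) = eps 𝒴 from hφ _, ← tanExt_incl 𝒴, hρ]
  rw [tcl_eq P 𝒳 hh, tcl_eq P 𝒴 hh']

/-- The class is injective on isomorphism classes. -/
theorem nonempty_iso_of_tcl_eq {𝒴 : DefSch (Spec (CommRingCat.of B₀)) (str₀ k B₀) (Art.dual k k)}
    (h : tcl P 𝒳 = tcl P 𝒴) : Nonempty (𝒳.Iso 𝒴) := by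
  obtain ⟨h₁, φ₁, hh₁⟩ := exists_isClassifier P (tanExt 𝒳)
  obtain ⟨h₂, φ₂, hh₂⟩ := exists_isClassifier P (tanExt 𝒴)
  rw [tcl_eq P 𝒳 hh₁, tcl_eq P 𝒴 hh₂] at h
  obtain ⟨ψ, hψ⟩ := (homToT1_eq_iff P _ _).1 h
  obtain ⟨h₁', hh₁', -⟩ := exists_isClassifier_add P hh₁ ψ
  rw [← hψ] at hh₁'
  obtain ⟨e⟩ := nonempty_equiv_of_classifier P hh₁' hh₂
  let Φ : Γr 𝒳 ≃+* Γr 𝒴 := e.toAlgEquiv.toRingEquiv
  refine nonempty_iso Φ (fun (c : DualNumber k) => ?_) e.proj_apply
  have heps : Φ (eps 𝒳) = eps 𝒴 := by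
    have := e.apply_incl 1
    rw [← map_one (ρr 𝒳).hom, tanExt_incl, mul_one, map_one, ← map_one (ρr 𝒴).hom, tanExt_incl, mul_one] at this
    exact this
  have hinl : ∀ a : k, Φ ((φr 𝒳).hom (TrivSqZeroExt.inl a : DualNumber k)) =
      (φr 𝒴).hom (TrivSqZeroExt.inl a : DualNumber k) := e.toAlgEquiv.commutes
  have hc : c = (TrivSqZeroExt.inl c.fst : DualNumber k) +
      (TrivSqZeroExt.inl c.snd : DualNumber k) * TrivSqZeroExt.inr 1 := by
    rw [TrivSqZeroExt.inl_mul_inr, smul_eq_mul, mul_one, TrivSqZeroExt.inl_fst_add_inr_snd_eq]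
  have hsplit : ∀ (R : Type u) [CommRing R] (f : Art.dual k k →+* R), f c =
      f (TrivSqZeroExt.inl c.fst : DualNumber k) +
        f (TrivSqZeroExt.inl c.snd : DualNumber k) * f (TrivSqZeroExt.inr 1 : DualNumber k) := fun R _ f => by
    rw [← map_mul, ← map_add]
    exact congrArg f hc
  rw [hsplit _ (φr 𝒳).hom, hsplit _ (φr 𝒴).hom, map_add, map_mul, hinl, hinl]
  exact congrArg (fun t => _ + _ * t) heps

end Dual

/-- Every class comes from a first order deformation. -/
theorem exists_tcl_eq (v : T1 P B₀) :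
    ∃ 𝒳 : DefSch (Spec (CommRingCat.of B₀)) (str₀ k B₀) (Art.dual k k), tcl P 𝒳 = v := by
  obtain ⟨φ, rfl⟩ := homToT1_surjective P B₀ v
  obtain ⟨X, h, hh⟩ := exists_classified_ext P φ
  have hcomm : ∀ a : k, algebraMap k X.E a * X.incl 1 = X.incl (algebraMap k B₀ a) := fun a => by
    rw [X.isExtension.mul_incl, AlgHom.commutes, smul_eq_mul, mul_one]
  let f : DualNumber k → X.E := fun c => algebraMap k X.E c.fst + algebraMap k X.E c.snd * X.incl 1
  let η : Art.dual k k →+* X.E :=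
    { toFun := f
      map_one' := by
        show algebraMap k X.E (1 : DualNumber k).fst + algebraMap k X.E (1 : DualNumber k).snd * _ = 1
        rw [TrivSqZeroExt.fst_one, TrivSqZeroExt.snd_one, map_one, map_zero, zero_mul, add_zero]
      map_mul' := fun (a b : DualNumber k) => by
        show f (a * b) = f a * f b
        simp only [f, TrivSqZeroExt.fst_mul, DualNumber.snd_mul, map_mul, map_add]
        linear_combination -(algebraMap k X.E a.snd * algebraMap k X.E b.snd) * Exal3L.incl_mul_incl X 1 1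
      map_zero' := by
        show algebraMap k X.E (0 : DualNumber k).fst + algebraMap k X.E (0 : DualNumber k).snd * _ = 0
        rw [TrivSqZeroExt.fst_zero, TrivSqZeroExt.snd_zero, map_zero, zero_mul, add_zero]
      map_add' := fun (a b : DualNumber k) => by
        show f (a + b) = f a + f b
        simp only [f, TrivSqZeroExt.fst_add, TrivSqZeroExt.snd_add, map_add]
        ring }
  let e : Art.dual k k := (TrivSqZeroExt.inr 1 : DualNumber k)
  have he : η e = X.incl 1 := by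
    show f (TrivSqZeroExt.inr 1) = _
    simp [f]
  have hinc : ∀ y : X.E, y * X.incl 1 = X.incl (X.proj y) := fun y => by
    rw [X.isExtension.mul_incl, smul_eq_mul, mul_one]
  have hw : ∀ c, X.proj.toRingHom (η c) = algebraMap k B₀ ((Art.dual k k).res c) := fun (c : DualNumber k) => by
    show X.proj (f c) = algebraMap k B₀ c.fst
    simp only [f, map_add, map_mul, AlgHom.commutes, Exal3L.proj_incl, mul_zero, add_zero]
  have hk : RingHom.ker X.proj.toRingHom ≤ (IsLocalRing.maximalIdeal (Art.dual k k)).map η := fun y hy => by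
    obtain ⟨b, rfl⟩ := (X.isExtension.exact y).1 hy
    obtain ⟨z, rfl⟩ := X.isExtension.proj_surjective b
    rw [← hinc, ← he]
    exact Ideal.mul_mem_left _ _ (Ideal.mem_map_of_mem η (((Art.dual k k).mem_maximalIdeal_iff e).2 rfl))
  have hflat : η.Flat := by
    letI : Algebra (Art.dual k k) X.E := η.toAlgebra
    show Module.Flat (Art.dual k k) X.E
    refine Module.Flat.iff_rTensor_injective'.2 fun I => ?_
    rw [injective_iff_map_eq_zero]
    intro t ht
    by_cases hI : ∃ a ∈ I, (Art.dual k k).res a ≠ 0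
    · obtain ⟨a, ha, hne⟩ := hI
      have hIt : I = ⊤ := Ideal.eq_top_of_isUnit_mem _ ha (ArtFunLib.res_ne_zero_isUnit _ hne)
      subst hIt
      refine (TensorProduct.congr (Submodule.topEquiv (R := Art.dual k k) (M := Art.dual k k))
        (LinearEquiv.refl (Art.dual k k) X.E)).map_eq_zero_iff.1 (Eq.trans ?_ ht)
      clear ht
      induction t using TensorProduct.induction_on with
      | zero => simp
      | tmul a y => rfl
      | add u v hu hv => simp only [map_add, hu, hv]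
    · push Not at hI
      by_cases hIb : I = ⊥
      · subst hIb
        exact Subsingleton.elim _ _
      · have hmem : ∀ a ∈ I, ∃ c : Art.dual k k, a = c * e := fun (a : DualNumber k) ha =>
          ⟨(TrivSqZeroExt.inl a.snd : DualNumber k), by
            show a = (TrivSqZeroExt.inl a.snd : DualNumber k) * TrivSqZeroExt.inr 1
            rw [TrivSqZeroExt.inl_mul_inr, smul_eq_mul, mul_one]
            exact TrivSqZeroExt.ext (hI a ha) rfl⟩
        obtain ⟨a₀, ha₀, hne⟩ := Submodule.exists_mem_ne_zero_of_ne_bot hIb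
        have heI : e ∈ I := by
          have h0 : (a₀ : DualNumber k).snd ≠ 0 := fun h0 => hne (TrivSqZeroExt.ext (hI a₀ ha₀) h0)
          have : @HMul.hMul (DualNumber k) (DualNumber k) _ _ (TrivSqZeroExt.inl (a₀ : DualNumber k).snd⁻¹) a₀ = TrivSqZeroExt.inr 1 := by
            refine TrivSqZeroExt.ext ?_ ?_
            · rw [TrivSqZeroExt.fst_mul, TrivSqZeroExt.fst_inl, TrivSqZeroExt.fst_inr,
                show (a₀ : DualNumber k).fst = 0 from hI a₀ ha₀, mul_zero]
            · rw [DualNumber.snd_mul, TrivSqZeroExt.fst_inl, TrivSqZeroExt.snd_inl, TrivSqZeroExt.snd_inr,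
                zero_mul, add_zero, inv_mul_cancel₀ h0]
          show (TrivSqZeroExt.inr 1 : DualNumber k) ∈ I
          rw [← this]
          exact I.mul_mem_left (TrivSqZeroExt.inl (a₀ : DualNumber k).snd⁻¹ : DualNumber k) ha₀
        obtain ⟨y, rfl⟩ : ∃ y : X.E, t = (⟨e, heI⟩ : I) ⊗ₜ y := by
          clear ht
          induction t using TensorProduct.induction_on with
          | zero => exact ⟨0, (TensorProduct.tmul_zero _ _).symm⟩
          | tmul a y =>
            obtain ⟨c, hc⟩ := hmem a.1 a.2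
            exact ⟨c • y, by rw [TensorProduct.tmul_smul, TensorProduct.smul_tmul',
              show a = c • (⟨e, heI⟩ : I) from Subtype.ext hc]⟩
          | add u v hu hv =>
            obtain ⟨y, rfl⟩ := hu
            obtain ⟨z, rfl⟩ := hv
            exact ⟨y + z, (TensorProduct.tmul_add _ _ _).symm⟩
        have h1 : η e * y = 0 := by
          have := congrArg (TensorProduct.lid (Art.dual k k) X.E) ht
          rw [LinearMap.rTensor_tmul, TensorProduct.lid_tmul, map_zero] at this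
          exact this
        rw [he, mul_comm, hinc, ← map_zero X.incl] at h1
        obtain ⟨z, hz⟩ := (X.isExtension.exact y).1 (X.isExtension.incl_injective h1)
        obtain ⟨z', rfl⟩ := X.isExtension.proj_surjective z
        rw [← hinc, mul_comm, ← he] at hz
        rw [← hz, show η e * z' = e • z' from rfl, TensorProduct.tmul_smul, TensorProduct.smul_tmul',
          show e • (⟨e, heI⟩ : I) = 0 from Subtype.ext (TrivSqZeroExt.inr_mul_inr k (1 : k) 1),
          TensorProduct.zero_tmul]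
  obtain ⟨𝒴, Φ, hΦ, hΦρ⟩ := exists_defSch X.E η X.proj.toRingHom X.isExtension.proj_surjective hw hk hflat
  refine ⟨𝒴, ?_⟩
  have hh' : IsClassifier P (tanExt 𝒴) ((Φ.symm.toRingHom : X.E →+* (tanExt 𝒴).E).comp h) φ := by
    refine ⟨fun a => ?_, fun r => ?_, fun x => ?_⟩
    · refine (congrArg Φ.symm (hh.1 a)).trans ((Φ.symm_apply_eq).2 ?_)
      refine Eq.trans ?_ (hΦ _).symm
      show _ = f (TrivSqZeroExt.inl a)
      simp [f]
    · show (ρr 𝒴).hom (Φ.symm (h r)) = _
      rw [← hΦρ, Φ.apply_symm_apply]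
      exact hh.2.1 r
    · obtain ⟨y, hy⟩ := ρr_surjective 𝒴 (φ (Algebra.Extension.Cotangent.mk x))
      refine (congrArg Φ.symm (hh.2.2 x)).trans ((Φ.symm_apply_eq).2 ?_)
      rw [← hy, tanExt_incl, ← hΦρ]
      refine Eq.trans ?_ (map_mul Φ _ _).symm
      rw [show Φ (eps 𝒴) = η e from hΦ _, he, mul_comm, hinc]
      rfl
  rw [tcl_eq P 𝒴 hh']

/-- The classes of the base changes of a deformation over `k ⊕ kⁿ` depend linearly on the functional. -/
theorem exists_tcl_baseChange {n : ℕ}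
    (𝒳 : DefSch (Spec (CommRingCat.of B₀)) (str₀ k B₀) (ArtFunLib.tn k k n)) :
    ∃ v : Fin n → T1 P B₀, ∀ L : (Fin n → k) →ₗ[k] k,
      tcl P (𝒳.baseChange (ArtFunLib.tnDual (Λ := k) L)) = ∑ i, algebraMap k B₀ (L (Pi.single i 1)) • v i := by
  classical
  choose sec hsec using fun i => ρr_surjective 𝒳 (P.val i)
  let inl : k →+* ArtFunLib.tn k k n := (TrivSqZeroExt.inlHom k (Fin n → k))
  let h₀ : P.toExtension.Ring →+* Γr 𝒳 := MvPolynomial.eval₂Hom ((φr 𝒳).hom.comp inl) sec
  have hC : ∀ a, h₀ (MvPolynomial.C a) = (φr 𝒳).hom (inl a) := fun a => MvPolynomial.eval₂Hom_C _ _ a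
  have hp : ∀ r, (ρr 𝒳).hom (h₀ r) = algebraMap P.toExtension.Ring B₀ r := by
    intro r
    rw [algebraMap_toExtension]
    suffices (ρr 𝒳).hom.comp h₀ = (MvPolynomial.aeval P.val).toRingHom from RingHom.congr_fun this r
    refine MvPolynomial.ringHom_ext (fun a => ?_) (fun i => ?_)
    · exact ((congrArg (ρr 𝒳).hom (hC a)).trans (ρr_φr 𝒳 _)).trans (MvPolynomial.aeval_C _ a).symm
    · exact ((congrArg (ρr 𝒳).hom (MvPolynomial.eval₂Hom_X' _ _ i)).trans (hsec i)).trans
        (MvPolynomial.aeval_X _ i).symm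
  choose G hGφ hGρ using fun L : (Fin n → k) →ₗ[k] k => exists_ringHom_baseChange 𝒳 (ArtFunLib.tnDual (Λ := k) L)
  let hL : ∀ L : (Fin n → k) →ₗ[k] k, P.toExtension.Ring →+* (tanExt (𝒳.baseChange (ArtFunLib.tnDual (Λ := k) L))).E :=
    fun L => (G L).comp h₀
  have hL1 : ∀ L a, hL L (MvPolynomial.C a) =
      algebraMap k (tanExt (𝒳.baseChange (ArtFunLib.tnDual (Λ := k) L))).E a := fun L a => by
    refine (congrArg (G L) (hC a)).trans ((hGφ L _).trans ?_)
    refine congrArg (φr _).hom ?_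
    show ((TrivSqZeroExt.inl a).fst, L (TrivSqZeroExt.inl a).snd) = (TrivSqZeroExt.inl a : DualNumber k)
    exact TrivSqZeroExt.ext rfl (map_zero L)
  have hL2 : ∀ L r, (tanExt (𝒳.baseChange (ArtFunLib.tnDual (Λ := k) L))).proj (hL L r) = algebraMap P.toExtension.Ring B₀ r :=
    fun L r => (hGρ L _).trans (hp r)
  choose φ hφ using fun L => exists_phi_of_lift P _ (hL L) (hL1 L) (hL2 L)
  refine ⟨fun i => homToT1 P B₀ (φ (LinearMap.proj i)), fun L => ?_⟩
  simp only [← map_smul, ← map_sum]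
  rw [tcl_eq P _ (hφ L)]
  refine congrArg _ (LinearMap.ext fun c => ?_)
  obtain ⟨x, rfl⟩ := Algebra.Extension.Cotangent.mk_surjective c
  rw [LinearMap.sum_apply]
  -- write the lift of a relation in terms of the variables
  obtain ⟨y, hy⟩ : ∃ y : Fin n → Γr 𝒳,
      h₀ x = ∑ i, (φr 𝒳).hom (TrivSqZeroExt.inr (Pi.single i 1) : TrivSqZeroExt k (Fin n → k)) * y i := by
    have hx : h₀ x ∈ RingHom.ker (ρr 𝒳).hom := RingHom.mem_ker.2 ((hp _).trans x.2)
    rw [ker_ρr] at hx
    have hle : (IsLocalRing.maximalIdeal (ArtFunLib.tn k k n)).map (φr 𝒳).hom ≤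
        Ideal.span (Set.range fun i : Fin n =>
          (φr 𝒳).hom (TrivSqZeroExt.inr (Pi.single i 1) : TrivSqZeroExt k (Fin n → k))) := by
      refine Ideal.map_le_iff_le_comap.2 fun (a : TrivSqZeroExt k (Fin n → k)) ha => ?_
      have ha0 : a.fst = 0 := ((ArtFunLib.tn k k n).mem_maximalIdeal_iff a).1 ha
      have e : a = ∑ i, (TrivSqZeroExt.inl (a.snd i) : TrivSqZeroExt k (Fin n → k)) *
          TrivSqZeroExt.inr (Pi.single i 1) := by
        simp only [TrivSqZeroExt.inl_mul_inr, ← TrivSqZeroExt.inr_sum, ← Pi.single_smul', smul_eq_mul, mul_one,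
          Finset.univ_sum_single]
        exact TrivSqZeroExt.ext ha0 rfl
      rw [Ideal.mem_comap, e]
      exact (congrArg (· ∈ _) (map_sum (φr 𝒳).hom _ _)).mpr (Ideal.sum_mem _ fun i _ =>
        (congrArg (· ∈ _) (map_mul (φr 𝒳).hom _ _)).mpr
          (Ideal.mul_mem_left _ _ (Ideal.subset_span ⟨i, rfl⟩)))
    obtain ⟨y, hy⟩ := (Submodule.mem_span_range_iff_exists_fun _).1 (hle hx)
    exact ⟨y, hy.symm.trans (Finset.sum_congr rfl fun i _ => mul_comm _ _)⟩
  have key : ∀ L, φ L (Algebra.Extension.Cotangent.mk x) =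
      ∑ i, algebraMap k B₀ (L (Pi.single i 1)) * (ρr 𝒳).hom (y i) := by
    intro L
    let 𝒴 := 𝒳.baseChange (ArtFunLib.tnDual (Λ := k) L)
    refine (tanExt 𝒴).isExtension.incl_injective ((hφ L).2.2 x |>.symm.trans ?_)
    show G L (h₀ x) = _
    rw [hy, map_sum, map_sum]
    refine Finset.sum_congr rfl fun i _ => ?_
    rw [map_mul, hGφ]
    have e1 : (φr 𝒴).hom (ArtFunLib.tnDual (Λ := k) L (TrivSqZeroExt.inr (Pi.single i 1) : TrivSqZeroExt k (Fin n → k))) =
        (φr 𝒴).hom (TrivSqZeroExt.inl (L (Pi.single i 1)) : DualNumber k) * eps 𝒴 := by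
      rw [eps, ← map_mul]
      refine congrArg _ ?_
      show ((0 : k), L (Pi.single i 1)) = (TrivSqZeroExt.inl (L (Pi.single i 1)) : DualNumber k) * TrivSqZeroExt.inr 1
      rw [TrivSqZeroExt.inl_mul_inr, smul_eq_mul, mul_one]
      rfl
    refine (congrArg (· * G L (y i)) e1).trans ?_
    rw [mul_comm _ (eps 𝒴), mul_assoc, ← tanExt_incl 𝒴, map_mul, ρr_φr, hGρ]
    rfl
  rw [key L]
  refine Finset.sum_congr rfl fun i _ => ?_
  rw [LinearMap.smul_apply, key, smul_eq_mul]
  refine congrArg _ ?_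
  rw [Finset.sum_eq_single i (fun j _ hj => by simp [Pi.single_eq_of_ne' hj]) (fun h => absurd (Finset.mem_univ i) h)]
  simp

end Groth.Agent.DefHull3
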