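import Groth.Agent.Lib.DefAff3.Scheme

/-!
# Ring data of affine deformations
-/

set_option autoImplicit false
set_option backward.isDefEq.respectTransparency false
set_option linter.style.haveILetI false

universe u

open CategoryTheory CategoryTheory.Limits AlgebraicGeometry

noncomputable section

namespace Groth.Agent.DefHull3

open ArtFun DefAff3

variable {k : Type u} [Field k] {B₀ : Type u} [CommRing B₀] [Algebra k B₀]
variable {C : Art k k} (𝒳 : DefSch (Spec (CommRingCat.of B₀)) (str₀ k B₀) C)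

/-- The ring of the total space. -/
abbrev Γr : CommRingCat.{u} := Γ(𝒳.total, ⊤)

/-- Its structure map. -/
def φr : CommRingCat.of C ⟶ Γr 𝒳 :=
  haveI : IsAffine 𝒳.total := isAffine_total 𝒳
  Spec.preimage (𝒳.total.isoSpec.inv ≫ 𝒳.f)

/-- The restriction to the closed fibre. -/
def ρr : Γr 𝒳 ⟶ CommRingCat.of B₀ :=
  haveI : IsAffine 𝒳.total := isAffine_total 𝒳
  Spec.preimage (𝒳.i ≫ 𝒳.total.isoSpec.hom)

theorem map_φr [IsAffine 𝒳.total] : Spec.map (φr 𝒳) = 𝒳.total.isoSpec.inv ≫ 𝒳.f :=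
  Spec.map_preimage _

theorem map_ρr [IsAffine 𝒳.total] : Spec.map (ρr 𝒳) = 𝒳.i ≫ 𝒳.total.isoSpec.hom :=
  Spec.map_preimage _

theorem isPushout_φr :
    IsPushout (φr 𝒳) (CommRingCat.ofHom C.res.toRingHom) (ρr 𝒳) (CommRingCat.ofHom (algebraMap k B₀)) := by
  haveI : IsAffine 𝒳.total := isAffine_total 𝒳
  have hpb : IsPullback (Spec.map (ρr 𝒳)) (Spec.map (CommRingCat.ofHom (algebraMap k B₀))) (Spec.map (φr 𝒳))
      (Spec.map (CommRingCat.ofHom C.res.toRingHom)) :=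
    IsPullback.of_iso 𝒳.isPullback (Iso.refl _) 𝒳.total.isoSpec (Iso.refl _) (Iso.refl _)
      (by simp [map_ρr]) (by simp) (by simp [map_φr]) (by simp only [Iso.refl_hom, Category.comp_id, Category.id_comp])
  exact (show IsPullback (ρr 𝒳).op (CommRingCat.ofHom (algebraMap k B₀)).op (φr 𝒳).op
      (CommRingCat.ofHom C.res.toRingHom).op from
    IsPullback.of_map_of_faithful Scheme.Spec hpb).unop.flip

theorem ρr_φr (c : C) : (ρr 𝒳).hom ((φr 𝒳).hom c) = algebraMap k B₀ (C.res c) :=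
  congrArg (fun t : CommRingCat.of C ⟶ CommRingCat.of B₀ => t.hom c) (isPushout_φr 𝒳).w

theorem ρr_surjective : Function.Surjective (ρr 𝒳).hom :=
  (data_of_isPushout (isPushout_φr 𝒳) C.res_surjective).1

theorem ker_ρr : RingHom.ker (ρr 𝒳).hom = (IsLocalRing.maximalIdeal C).map (φr 𝒳).hom := by
  rw [(data_of_isPushout (isPushout_φr 𝒳) C.res_surjective).2]
  congr 1
  ext a
  exact (C.mem_maximalIdeal_iff a).symm

theorem flat_φr : (φr 𝒳).hom.Flat := by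
  haveI : IsAffine 𝒳.total := isAffine_total 𝒳
  have hf : Flat (Spec.map (φr 𝒳)) := (map_φr 𝒳) ▸ inferInstance
  exact (HasRingHomProperty.Spec_iff (P := @Flat)).1 hf

/-- A deformation from ring data. -/
theorem exists_defSch (E : Type u) [CommRing E] (η : C →+* E) (ρ : E →+* B₀)
    (hρ : Function.Surjective ρ) (hw : ∀ c, ρ (η c) = algebraMap k B₀ (C.res c))
    (hk : RingHom.ker ρ ≤ (IsLocalRing.maximalIdeal C).map η) (hflat : η.Flat) :
    ∃ (𝒴 : DefSch (Spec (CommRingCat.of B₀)) (str₀ k B₀) C) (Φ : Γr 𝒴 ≃+* E),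
      (∀ c, Φ ((φr 𝒴).hom c) = η c) ∧ ∀ y, ρ (Φ y) = (ρr 𝒴).hom y := by
  let E' := CommRingCat.of E
  have hk' : RingHom.ker ρ ≤ (RingHom.ker C.res.toRingHom).map η := by
    convert hk using 2
    ext a
    exact (C.mem_maximalIdeal_iff a).symm
  have hpo : IsPushout (CommRingCat.ofHom η : CommRingCat.of C ⟶ E') (CommRingCat.ofHom C.res.toRingHom)
      (CommRingCat.ofHom ρ) (CommRingCat.ofHom (algebraMap k B₀)) :=
    isPushout_of_surjective _ _ _ _ (CommRingCat.hom_ext (RingHom.ext hw)) C.res_surjective hρ hk'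
  let 𝒴 : DefSch (Spec (CommRingCat.of B₀)) (str₀ k B₀) C :=
    { total := Spec E'
      f := Spec.map (CommRingCat.ofHom η)
      flat := by rw [HasRingHomProperty.Spec_iff (P := @Flat)]; exact hflat
      i := Spec.map (CommRingCat.ofHom ρ)
      isPullback := isPullback_SpecMap_of_isPushout _ _ _ _ hpo }
  haveI : IsAffine 𝒴.total := isAffine_total 𝒴
  let s : E' ⟶ Γr 𝒴 := Spec.preimage 𝒴.total.isoSpec.inv
  let s' : Γr 𝒴 ⟶ E' := Spec.preimage 𝒴.total.isoSpec.hom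
  have hs : Spec.map s = 𝒴.total.isoSpec.inv := Spec.map_preimage _
  have hs' : Spec.map s' = 𝒴.total.isoSpec.hom := Spec.map_preimage _
  have hs1 : s ≫ s' = 𝟙 _ := Spec.map_injective (by rw [Spec.map_comp, hs, hs', Iso.hom_inv_id, Spec.map_id])
  have hs2 : s' ≫ s = 𝟙 _ := Spec.map_injective (by rw [Spec.map_comp, hs, hs', Iso.inv_hom_id, Spec.map_id])
  let Ψ : Γr 𝒴 ≃+* E := RingEquiv.ofRingHom s'.hom s.hom (congrArg CommRingCat.Hom.hom hs1)
    (congrArg CommRingCat.Hom.hom hs2)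
  have e1 : φr 𝒴 ≫ s' = CommRingCat.ofHom η := Spec.map_injective (by
    rw [Spec.map_comp, hs', map_φr, Iso.hom_inv_id_assoc])
  have e2 : s' ≫ CommRingCat.ofHom ρ = ρr 𝒴 := Spec.map_injective (by
    rw [Spec.map_comp, hs', map_ρr])
  exact ⟨𝒴, Ψ, fun c => congrArg (fun t : CommRingCat.of C ⟶ E' => t.hom c) e1,
    fun y => congrArg (fun t : Γr 𝒴 ⟶ CommRingCat.of B₀ => t.hom y) e2⟩

variable {𝒳}

/-- Isomorphic ring data give isomorphic deformations. -/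
theorem nonempty_iso {𝒴 : DefSch (Spec (CommRingCat.of B₀)) (str₀ k B₀) C} (Φ : Γr 𝒳 ≃+* Γr 𝒴)
    (hφ : ∀ c, Φ ((φr 𝒳).hom c) = (φr 𝒴).hom c) (hρ : ∀ y, (ρr 𝒴).hom (Φ y) = (ρr 𝒳).hom y) :
    Nonempty (𝒳.Iso 𝒴) := by
  haveI : IsAffine 𝒳.total := isAffine_total 𝒳
  haveI : IsAffine 𝒴.total := isAffine_total 𝒴
  let n : Γr 𝒳 ⟶ Γr 𝒴 := CommRingCat.ofHom Φ.toRingHom
  let n' : Γr 𝒴 ⟶ Γr 𝒳 := CommRingCat.ofHom Φ.symm.toRingHom
  have hn1 : n ≫ n' = 𝟙 _ := CommRingCat.hom_ext (RingHom.ext fun r => Φ.symm_apply_apply r)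
  have hn2 : n' ≫ n = 𝟙 _ := CommRingCat.hom_ext (RingHom.ext fun r => Φ.apply_symm_apply r)
  have hn : φr 𝒴 ≫ n' = φr 𝒳 := CommRingCat.hom_ext (RingHom.ext fun c =>
    (Φ.symm_apply_eq).2 (hφ c).symm)
  have hnρ : n' ≫ ρr 𝒳 = ρr 𝒴 := CommRingCat.hom_ext (RingHom.ext fun y =>
    (hρ (Φ.symm y)).symm.trans (congrArg (ρr 𝒴).hom (Φ.apply_symm_apply y)))
  refine ⟨{ iso :=
              { hom := 𝒳.total.isoSpec.hom ≫ Spec.map n' ≫ 𝒴.total.isoSpec.inv
                inv := 𝒴.total.isoSpec.hom ≫ Spec.map n ≫ 𝒳.total.isoSpec.inv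
                hom_inv_id := by
                  simp only [Category.assoc, Iso.inv_hom_id_assoc]
                  rw [← Spec.map_comp_assoc, hn1, Spec.map_id, Category.id_comp, Iso.hom_inv_id]
                inv_hom_id := by
                  simp only [Category.assoc, Iso.inv_hom_id_assoc]
                  rw [← Spec.map_comp_assoc, hn2, Spec.map_id, Category.id_comp, Iso.hom_inv_id] }
            hom_f := ?_
            i_hom := ?_ }⟩
  · show (_ ≫ _ ≫ _) ≫ 𝒴.f = 𝒳.f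
    rw [Category.assoc, Category.assoc, ← map_φr, ← Spec.map_comp, hn, map_φr, Iso.hom_inv_id_assoc]
  · show 𝒳.i ≫ _ ≫ _ ≫ _ = 𝒴.i
    rw [← Category.assoc, ← map_ρr, ← Spec.map_comp_assoc, hnρ, map_ρr, Category.assoc, Iso.hom_inv_id,
      Category.comp_id]

variable (𝒳)

/-- The ring map of a base change. -/
theorem exists_ringHom_baseChange {D : Art k k} (g : C ⟶ D) :
    ∃ G : Γr 𝒳 →+* Γr (𝒳.baseChange g), (∀ c, G ((φr 𝒳).hom c) = (φr (𝒳.baseChange g)).hom (g c)) ∧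
      ∀ y, (ρr (𝒳.baseChange g)).hom (G y) = (ρr 𝒳).hom y := by
  haveI : IsAffine 𝒳.total := isAffine_total 𝒳
  haveI : IsAffine (𝒳.baseChange g).total := isAffine_total (𝒳.baseChange g)
  let G : Γr 𝒳 ⟶ Γr (𝒳.baseChange g) :=
    Spec.preimage ((𝒳.baseChange g).total.isoSpec.inv ≫ pullback.fst 𝒳.f (Art.specMap g) ≫ 𝒳.total.isoSpec.hom)
  have hG : Spec.map G = (𝒳.baseChange g).total.isoSpec.inv ≫ pullback.fst 𝒳.f (Art.specMap g) ≫
      𝒳.total.isoSpec.hom := Spec.map_preimage _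
  have e1 : φr 𝒳 ≫ G = CommRingCat.ofHom g.toAlgHom.toRingHom ≫ φr (𝒳.baseChange g) := Spec.map_injective (by
    rw [Spec.map_comp, Spec.map_comp, hG, map_φr, map_φr]
    simp only [Category.assoc, Iso.hom_inv_id_assoc]
    exact congrArg _ pullback.condition)
  have e2 : G ≫ ρr (𝒳.baseChange g) = ρr 𝒳 := Spec.map_injective (by
    rw [Spec.map_comp, hG, map_ρr, map_ρr]
    simp only [Category.assoc, Iso.hom_inv_id_assoc]
    rw [← Category.assoc, DefSch.baseChange_i_fst])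
  exact ⟨G.hom, fun c => congrArg (fun t : CommRingCat.of C ⟶ Γr (𝒳.baseChange g) => t.hom c) e1,
    fun y => congrArg (fun t : Γr 𝒳 ⟶ CommRingCat.of B₀ => t.hom y) e2⟩

variable {𝒳}

/-- An isomorphism of deformations gives an isomorphism of ring data (one direction suffices). -/
theorem exists_ringHom_iso {𝒴 : DefSch (Spec (CommRingCat.of B₀)) (str₀ k B₀) C} (u : 𝒳.Iso 𝒴) :
    ∃ G : Γr 𝒳 →+* Γr 𝒴, (∀ c, G ((φr 𝒳).hom c) = (φr 𝒴).hom c) ∧
      ∀ y, (ρr 𝒴).hom (G y) = (ρr 𝒳).hom y := by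
  haveI : IsAffine 𝒳.total := isAffine_total 𝒳
  haveI : IsAffine 𝒴.total := isAffine_total 𝒴
  let G : Γr 𝒳 ⟶ Γr 𝒴 := Spec.preimage (𝒴.total.isoSpec.inv ≫ u.iso.inv ≫ 𝒳.total.isoSpec.hom)
  have hG : Spec.map G = 𝒴.total.isoSpec.inv ≫ u.iso.inv ≫ 𝒳.total.isoSpec.hom := Spec.map_preimage _
  have e1 : φr 𝒳 ≫ G = φr 𝒴 := Spec.map_injective (by
    rw [Spec.map_comp, hG, map_φr, map_φr]
    simp only [Category.assoc, Iso.hom_inv_id_assoc]
    exact congrArg _ u.symm.hom_f)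
  have e2 : G ≫ ρr 𝒴 = ρr 𝒳 := Spec.map_injective (by
    rw [Spec.map_comp, hG, map_ρr, map_ρr]
    simp only [Category.assoc, Iso.hom_inv_id_assoc]
    rw [← Category.assoc, show 𝒴.i ≫ u.iso.inv = 𝒳.i from u.symm.i_hom])
  exact ⟨G.hom, fun c => congrArg (fun t : CommRingCat.of C ⟶ Γr 𝒴 => t.hom c) e1,
    fun y => congrArg (fun t : Γr 𝒳 ⟶ CommRingCat.of B₀ => t.hom y) e2⟩

end Groth.Agent.DefHull3
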