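import Groth.Agent.Lib.DefHull3.Data
import Groth.Agent.Lib.DefAff3.Lift
import Groth.Agent.Lib.ArtFun.Basic
import Mathlib.RingTheory.TensorProduct.Maps
import Mathlib.LinearAlgebra.Dimension.Finite

/-!
# `T²` bounds the obstructions of affine deformations
-/

set_option autoImplicit false
set_option backward.isDefEq.respectTransparency false
set_option linter.style.haveILetI false

universe u

open CategoryTheory CategoryTheory.Limits AlgebraicGeometry TensorProduct

noncomputable section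

namespace Groth.Agent.DefHull3

open ArtFun DefAff3

variable {k : Type u} [Field k] {B₀ : Type u} [CommRing B₀] [Algebra k B₀]
variable {C' C : Art k k} (p : C' ⟶ C) (𝒳 : DefSch (Spec (CommRingCat.of B₀)) (str₀ k B₀) C)

theorem isScalarTower_ker (hp : Art.IsSemismallExt p) :
    letI : Algebra C' k := C'.res.toRingHom.toAlgebra
    IsScalarTower C' k ↥(RingHom.ker p.toAlgHom) := by
  letI : Algebra C' k := C'.res.toRingHom.toAlgebra
  exact ⟨fun a c j => Subtype.ext (by
    rw [Algebra.smul_def a c, Submodule.coe_smul_of_tower, Submodule.coe_smul, Submodule.coe_smul_of_tower,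
      Algebra.smul_def, smul_eq_mul, Algebra.smul_def]
    show algebraMap k C' (C'.res a * c) * (j : C') = a * (algebraMap k C' c * (j : C'))
    have h0 : (a - algebraMap k C' (C'.res a)) * (j : C') = 0 := by
      have := Ideal.mul_mem_mul (res_sub_mem a) j.2
      rwa [hp.2, Submodule.mem_bot] at this
    rw [map_mul]
    linear_combination -(algebraMap k C' c) * h0)⟩

/-- An extension by `B₀ ⊗ ker p` in which the kernel acts in the obvious way gives an extension of the deformation. -/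
theorem nonempty_pt_of_ring (hp : Art.IsSemismallExt p) (E : Type u) [CommRing E] (η : C' →+* E)
    (q : E →+* Γr 𝒳) (inc : B₀ ⊗[k] ↥(RingHom.ker p.toAlgHom) →+ E)
    (hq : Function.Surjective q) (hinc : Function.Injective inc)
    (hex : ∀ e, q e = 0 ↔ e ∈ Set.range inc)
    (hmul : ∀ e z, e * inc z = inc ((ρr 𝒳).hom (q e) • z))
    (hη : ∀ a, q (η a) = (φr 𝒳).hom (p a))
    (hj : ∀ j : ↥(RingHom.ker p.toAlgHom), η j = inc ((1 : B₀) ⊗ₜ j)) : Nonempty (Pt p 𝒳) := by
  classical
  haveI : IsAffine 𝒳.total := isAffine_total 𝒳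
  let B := Γr 𝒳
  letI : Algebra C' C := p.toAlgHom.toRingHom.toAlgebra
  letI : Algebra C' k := C'.res.toRingHom.toAlgebra
  letI : Algebra C k := C.res.toRingHom.toAlgebra
  haveI : IsScalarTower C' C k := IsScalarTower.of_algebraMap_eq fun a => (DFunLike.congr_fun p.res_comp a).symm
  letI : Algebra C B := (φr 𝒳).hom.toAlgebra
  letI : Algebra C' B := ((φr 𝒳).hom.comp p.toAlgHom.toRingHom).toAlgebra
  haveI : IsScalarTower C' C B := IsScalarTower.of_algebraMap_eq fun _ => rfl
  letI : Algebra C' B₀ := ((algebraMap k B₀).comp C'.res.toRingHom).toAlgebra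
  haveI : IsScalarTower C' k B₀ := IsScalarTower.of_algebraMap_eq fun _ => rfl
  letI : Algebra C B₀ := ((algebraMap k B₀).comp C.res.toRingHom).toAlgebra
  haveI : IsScalarTower C k B₀ := IsScalarTower.of_algebraMap_eq fun _ => rfl
  letI : Algebra B B₀ := (ρr 𝒳).hom.toAlgebra
  haveI : IsScalarTower C B B₀ := IsScalarTower.of_algebraMap_eq fun c => (ρr_φr 𝒳 c).symm
  haveI : IsScalarTower C' B B₀ := IsScalarTower.of_algebraMap_eq fun a =>
    ((ρr_φr 𝒳 (p a)).trans (congrArg (algebraMap k B₀) (Art.res_app p a))).symm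
  let J : Ideal C' := RingHom.ker p.toAlgHom
  haveI : IsScalarTower C' k J := isScalarTower_ker p hp
  haveI : Module.Flat C B := flat_φr 𝒳
  letI : Algebra C' E := η.toAlgebra
  let Y : Exal.Ext C' B (B₀ ⊗[k] J) :=
    { E := E
      proj := { q with commutes' := hη }
      incl := inc
      isExtension := ⟨hq, hinc, hex, fun e z => (hmul e z).trans (congrArg inc (algebraMap_smul B₀ (q e) z))⟩ }
  have hY : ∀ j : J, algebraMap C' Y.E j = Y.incl (nu J j) := hj
  have hρs := ρr_surjective 𝒳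
  have hkC : RingHom.ker (algebraMap C k) = IsLocalRing.maximalIdeal C := by
    ext a
    exact (C.mem_maximalIdeal_iff a).symm
  have hρk : RingHom.ker (algebraMap B B₀) = (RingHom.ker (algebraMap C k)).map (algebraMap C B) := by
    rw [hkC]
    exact ker_ρr 𝒳
  have hmax : RingHom.ker (algebraMap C' k) = IsLocalRing.maximalIdeal C' := by
    ext a
    exact (C'.mem_maximalIdeal_iff a).symm
  have hJm : J ≤ RingHom.ker (algebraMap C' k) := hmax ▸ IsLocalRing.le_maximalIdeal (RingHom.ker_ne_top _)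
  have hJnil : IsNilpotent J := by
    obtain ⟨n, hn⟩ := ArtFunLib.isNilpotent_𝔪 C'
    exact ⟨n, le_bot_iff.1 ((Ideal.pow_right_mono (hJm.trans hmax.le) n).trans hn.le)⟩
  haveI := flat_of_ext (k := k) J hp.1 rfl hρs hρk hJm C'.res_surjective hJnil Y hY
  let Er := CommRingCat.of Y.E
  let η' : CommRingCat.of C' ⟶ Er := CommRingCat.ofHom (algebraMap C' Y.E)
  let q' : Er ⟶ B := CommRingCat.ofHom Y.proj.toRingHom
  have hpo : IsPushout η' (CommRingCat.ofHom p.toAlgHom.toRingHom) q' (φr 𝒳) :=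
    isPushout_of_surjective η' _ q' (φr 𝒳) (CommRingCat.hom_ext (RingHom.ext fun r => Y.proj.commutes r)) hp.1
      Y.isExtension.proj_surjective (ker_proj_eq (k := k) J Y hY hρs).le
  let g : 𝒳.total ⟶ Spec Er := 𝒳.total.isoSpec.hom ≫ Spec.map q'
  have hgpb : IsPullback g 𝒳.f (Spec.map η') (Art.specMap p) :=
    IsPullback.of_iso (isPullback_SpecMap_of_isPushout _ _ _ _ hpo) 𝒳.total.isoSpec.symm (Iso.refl _) (Iso.refl _)
      (Iso.refl _) (by simp [g]) (by simp [map_φr]) (by simp) (by simp only [Iso.refl_hom, Category.comp_id, Category.id_comp])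
  have hflat : Flat (Spec.map η') := by
    rw [HasRingHomProperty.Spec_iff (P := @Flat), CommRingCat.hom_ofHom, RingHom.flat_algebraMap_iff]
    infer_instance
  let 𝒴 : DefSch (Spec (CommRingCat.of B₀)) (str₀ k B₀) C' :=
    { total := Spec Er
      f := Spec.map η'
      flat := hflat
      i := 𝒳.i ≫ g
      isPullback := by
        have := 𝒳.isPullback.paste_horiz hgpb
        rwa [Art.specRes_comp] at this }
  let u : (𝒴.baseChange p).Iso 𝒳 :=
    { iso := (IsPullback.of_hasPullback 𝒴.f (Art.specMap p)).isoIsPullback _ _ hgpb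
      hom_f := IsPullback.isoIsPullback_hom_snd _ _ _ _
      i_hom := hgpb.hom_ext (by rw [Category.assoc, IsPullback.isoIsPullback_hom_fst, DefSch.baseChange_i_fst])
        (by rw [Category.assoc, IsPullback.isoIsPullback_hom_snd, 𝒳.i_f]; exact DefSch.baseChange_i_f 𝒴 p) }
  exact ⟨⟨𝒴, u⟩⟩

theorem isSemismallExt_quotFactor (hp : Art.IsSemismallExt p) (K : Ideal C')
    (hK : K ≤ IsLocalRing.maximalIdeal C') (hKJ : K ≤ RingHom.ker p.toAlgHom) :
    Art.IsSemismallExt (Art.quotFactor hK p hKJ) := by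
  refine ⟨ArtFunLib.quotFactor_surjective _ _ _ hp.1, le_bot_iff.1 (Ideal.mul_le.2 fun a ha c hc => ?_)⟩
  obtain ⟨a, rfl⟩ := Art.quotMk_surjective C' K hK a
  obtain ⟨c, rfl⟩ := Art.quotMk_surjective C' K hK c
  rw [Ideal.mem_bot, ← map_mul, (Ideal.mem_bot).1 (hp.2.le (Ideal.mul_mem_mul
    (ArtFunLib.mem_of_map_mem (Art.quotMk C' K hK) ha) (show c ∈ RingHom.ker p.toAlgHom from hc))), map_zero]

theorem T2map_toT2 {ι σ : Type u} (P : Algebra.Presentation k B₀ ι σ) {M N : Type u} [AddCommGroup M]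
    [Module B₀ M] [AddCommGroup N] [Module B₀ N] (g : M →ₗ[B₀] N) (φ : CotT.L2 P →ₗ[B₀] M) :
    CotT.T2map P g (CotT.toT2 P M φ) = CotT.toT2 P N (g ∘ₗ φ) := rfl

theorem toT2_surjective {ι σ : Type u} (P : Algebra.Presentation k B₀ ι σ) (M : Type u) [AddCommGroup M]
    [Module B₀ M] : Function.Surjective (CotT.toT2 P M) := Submodule.mkQ_surjective _

set_option maxHeartbeats 1600000 in
/-- Classes in `T²(B₀/k, B₀ ⊗ J)` come from `dim T²` elements of `J`. -/
theorem exists_T2_generators {ι σ : Type u} (P : Algebra.Presentation k B₀ ι σ) [Module.Finite k (CotT.T2 P B₀)]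
    (J : Type u) [AddCommGroup J] [Module k J] [Module.Finite k J] (ob : CotT.T2 P (B₀ ⊗[k] J)) :
    ∃ x : Fin (Module.finrank k (CotT.T2 P B₀)) → J,
      ∀ (L : Type u) [AddCommGroup L] [Module B₀ L] (G : B₀ ⊗[k] J →ₗ[B₀] L),
        (∀ i b, G (b ⊗ₜ x i) = 0) → CotT.T2map P G ob = 0 := by
  classical
  let bJ := Module.finBasis k J
  let pr : Fin (Module.finrank k J) → (B₀ ⊗[k] J →ₗ[B₀] B₀) := fun a =>
    (TensorProduct.AlgebraTensorModule.rid k B₀ B₀).toLinearMap ∘ₗ (bJ.coord a).baseChange B₀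
  let inj : J → (B₀ →ₗ[B₀] B₀ ⊗[k] J) := fun j => LinearMap.toSpanSingleton B₀ _ ((1 : B₀) ⊗ₜ j)
  have hinj : ∀ (j : J) (b : B₀), inj j b = b ⊗ₜ j := fun j b => by
    show b • ((1 : B₀) ⊗ₜ[k] j) = _
    rw [TensorProduct.smul_tmul', smul_eq_mul, mul_one]
  let w := Module.finBasis k (CotT.T2 P B₀)
  let c : Fin (Module.finrank k J) → Fin (Module.finrank k (CotT.T2 P B₀)) → k := fun a i =>
    w.repr (CotT.T2map P (pr a) ob) i
  refine ⟨fun i => ∑ a, c a i • bJ a, fun L _ _ G hx => ?_⟩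
  have h1 : CotT.T2map P G ob = ∑ a, CotT.T2map P (G ∘ₗ inj (bJ a)) (CotT.T2map P (pr a) ob) := by
    obtain ⟨Ψ, rfl⟩ : ∃ Ψ, CotT.toT2 P (B₀ ⊗[k] J) Ψ = ob := toT2_surjective P (B₀ ⊗[k] J) ob
    simp only [T2map_toT2]
    rw [← map_sum]
    refine congrArg _ (LinearMap.ext fun z => ?_)
    rw [LinearMap.sum_apply]
    show G (Ψ z) = ∑ a, G (inj (bJ a) (pr a (Ψ z)))
    rw [← map_sum]
    refine congrArg G ?_
    induction Ψ z using TensorProduct.induction_on with
    | zero => simp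
    | tmul b j =>
      conv_lhs => rw [← bJ.sum_repr j, TensorProduct.tmul_sum]
      refine Finset.sum_congr rfl fun a _ => ?_
      rw [hinj, ← TensorProduct.smul_tmul]
      rfl
    | add u v hu hv => simp only [map_add, Finset.sum_add_distrib, ← hu, ← hv]
  have h2 : ∀ a, CotT.T2map P (pr a) ob = ∑ i, algebraMap k B₀ (c a i) • w i := fun a => by
    simp only [algebraMap_smul]
    exact (w.sum_repr _).symm
  rw [h1]
  simp only [h2, map_sum, map_smul]
  rw [Finset.sum_comm]
  refine Finset.sum_eq_zero fun i _ => ?_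
  obtain ⟨ψ, hψ⟩ : ∃ ψ, CotT.toT2 P B₀ ψ = w i := toT2_surjective P B₀ (w i)
  rw [← hψ]
  simp only [T2map_toT2]
  simp only [← map_smul, ← map_sum]
  refine (congrArg _ (LinearMap.ext fun z => ?_)).trans (map_zero _)
  rw [LinearMap.sum_apply]
  show ∑ a, algebraMap k B₀ (c a i) • G (inj (bJ a) (ψ z)) = 0
  simp only [← map_smul, ← map_sum, hinj, algebraMap_smul, ← TensorProduct.tmul_smul, ← TensorProduct.tmul_sum]
  exact hx i (ψ z)

/-- After dividing the kernel by `dim T²` suitable elements a deformation extends. -/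
theorem exists_obs (hp : Art.IsSemismallExt p) {ι σ : Type u} (P : Algebra.Presentation k B₀ ι σ)
    [Module.Finite k (CotT.T2 P B₀)] :
    ∃ x : Fin (Module.finrank k (CotT.T2 P B₀)) → ↥(RingHom.ker p.toAlgHom),
      ∀ (K : Ideal C') (hK : K ≤ IsLocalRing.maximalIdeal C') (hKJ : K ≤ RingHom.ker p.toAlgHom),
        (∀ i, (x i : C') ∈ K) → Nonempty (Pt (Art.quotFactor hK p hKJ) 𝒳) := by
  classical
  let B := Γr 𝒳
  letI : Algebra C' C := p.toAlgHom.toRingHom.toAlgebra
  letI : Algebra C' k := C'.res.toRingHom.toAlgebra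
  letI : Algebra C k := C.res.toRingHom.toAlgebra
  haveI : IsScalarTower C' C k := IsScalarTower.of_algebraMap_eq fun a => (DFunLike.congr_fun p.res_comp a).symm
  letI : Algebra C B := (φr 𝒳).hom.toAlgebra
  letI : Algebra C' B := ((φr 𝒳).hom.comp p.toAlgHom.toRingHom).toAlgebra
  haveI : IsScalarTower C' C B := IsScalarTower.of_algebraMap_eq fun _ => rfl
  letI : Algebra C' B₀ := ((algebraMap k B₀).comp C'.res.toRingHom).toAlgebra
  haveI : IsScalarTower C' k B₀ := IsScalarTower.of_algebraMap_eq fun _ => rfl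
  letI : Algebra C B₀ := ((algebraMap k B₀).comp C.res.toRingHom).toAlgebra
  haveI : IsScalarTower C k B₀ := IsScalarTower.of_algebraMap_eq fun _ => rfl
  letI : Algebra B B₀ := (ρr 𝒳).hom.toAlgebra
  haveI : IsScalarTower C B B₀ := IsScalarTower.of_algebraMap_eq fun c => (ρr_φr 𝒳 c).symm
  haveI : IsScalarTower C' B B₀ := IsScalarTower.of_algebraMap_eq fun a =>
    ((ρr_φr 𝒳 (p a)).trans (congrArg (algebraMap k B₀) (Art.res_app p a))).symm
  let J : Ideal C' := RingHom.ker p.toAlgHom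
  haveI : IsScalarTower C' k J := isScalarTower_ker p hp
  haveI : Module.Flat C B := flat_φr 𝒳
  have hkC : RingHom.ker (algebraMap C k) = IsLocalRing.maximalIdeal C := by
    ext a
    exact (C.mem_maximalIdeal_iff a).symm
  have hρk : RingHom.ker (algebraMap B B₀) = (RingHom.ker (algebraMap C k)).map (algebraMap C B) := by
    rw [hkC]
    exact ker_ρr 𝒳
  have hmax : RingHom.ker (algebraMap C' k) = IsLocalRing.maximalIdeal C' := by
    ext a
    exact (C'.mem_maximalIdeal_iff a).symm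
  have hm : IsNilpotent (RingHom.ker (algebraMap C' k)) := hmax ▸ ArtFunLib.isNilpotent_𝔪 C'
  obtain ⟨ob, hob⟩ := exists_obstruction J hp.1 rfl C'.res_surjective hm (ρr_surjective 𝒳) hρk P
  haveI : Module.Finite C' J := Module.Finite.iff_fg.2 (IsNoetherian.noetherian J)
  haveI : Module.Finite k J := Module.Finite.of_restrictScalars_finite C' k J
  obtain ⟨x, hx₀⟩ := exists_T2_generators P J ob
  refine ⟨x, fun K hK hKJ hx => ?_⟩
  let p'' := Art.quotFactor hK p hKJ
  let J'' := RingHom.ker p''.toAlgHom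
  let τ : J →ₗ[k] J'' := (Art.kerToQuot hK p hKJ).restrictScalars k
  let G : B₀ ⊗[k] J →ₗ[B₀] B₀ ⊗[k] J'' := τ.baseChange B₀
  have hG : CotT.T2map P G ob = 0 := hx₀ _ G fun i b => by
    rw [show G (b ⊗ₜ[k] x i) = b ⊗ₜ τ (x i) from rfl,
      show τ (x i) = 0 from Subtype.ext (Ideal.Quotient.eq_zero_iff_mem.2 (hx i)), TensorProduct.tmul_zero]
  obtain ⟨X, hX⟩ := hob (B₀ ⊗[k] J'') G hG
  have hK0 : ∀ a ∈ K, algebraMap C' X.E a = 0 := fun a ha => by
    rw [show algebraMap C' X.E a = _ from hX ⟨a, hKJ ha⟩]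
    show X.incl (G ((1 : B₀) ⊗ₜ ⟨a, hKJ ha⟩)) = 0
    rw [show G ((1 : B₀) ⊗ₜ[k] ⟨a, hKJ ha⟩) = (1 : B₀) ⊗ₜ τ ⟨a, hKJ ha⟩ from rfl,
      show τ ⟨a, hKJ ha⟩ = 0 from Subtype.ext (Ideal.Quotient.eq_zero_iff_mem.2 ha),
      TensorProduct.tmul_zero, map_zero]
  refine nonempty_pt_of_ring p'' 𝒳 (isSemismallExt_quotFactor p hp K hK hKJ) X.E
    (Ideal.Quotient.lift K (algebraMap C' X.E) hK0) X.proj.toRingHom X.incl X.isExtension.proj_surjective
    X.isExtension.incl_injective X.isExtension.exact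
    (fun e z => (X.isExtension.mul_incl e z).trans (congrArg X.incl (algebraMap_smul B₀ (X.proj e) z).symm))
    (fun a => ?_) fun j => ?_
  · obtain ⟨a, rfl⟩ := Art.quotMk_surjective C' K hK a
    exact X.proj.commutes a
  · obtain ⟨a, ha⟩ := Art.quotMk_surjective C' K hK j
    have haJ : a ∈ J := by
      have := RingHom.mem_ker.1 j.2
      rw [← ha] at this
      exact this
    rw [show j = τ ⟨a, haJ⟩ from Subtype.ext ha.symm]
    exact hX ⟨a, haJ⟩

end Groth.Agent.DefHull3
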